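/-
Kernel checks of the certificate.
-/
import Cfsg.Agent.Lib.Chev.InvolCert.F4.Tbl
import Cfsg.Agent.Lib.Chev.AllC

set_option autoImplicit false
set_option Elab.async false

namespace Cfsg.Agent.Chev.InvolCert.F4

open Cfsg.Agent.Chev.InvolCert

theorem ok0 : ((List.range' 0 64).all fun i => ckNode Cfsg.Agent.Chev.F4.pk (cert.map Prod.fst) tbl i) = true := by
  decide +kernel

theorem ok1 : ((List.range' 64 64).all fun i => ckNode Cfsg.Agent.Chev.F4.pk (cert.map Prod.fst) tbl i) = true := by
  decide +kernel

theorem ok2 : ((List.range' 128 64).all fun i => ckNode Cfsg.Agent.Chev.F4.pk (cert.map Prod.fst) tbl i) = true := by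
  decide +kernel

theorem ok3 : ((List.range' 192 55).all fun i => ckNode Cfsg.Agent.Chev.F4.pk (cert.map Prod.fst) tbl i) = true := by
  decide +kernel

end Cfsg.Agent.Chev.InvolCert.F4
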