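/-
The involutions of the group of type F4 in characteristic two.
-/
import Cfsg.Agent.Lib.Chev.InvolCert.F4.Ck0
import Cfsg.Agent.Lib.Chev.InvolCert.F4.Sep
import Cfsg.Agent.Lib.Chev.InvolCert.Final

set_option autoImplicit false

namespace Cfsg.Agent.Chev.InvolCert.F4

open Cfsg.Lie Cfsg.Agent.Chev Cfsg.Agent.Chev.InvolCert

theorem ok_all : ∀ i < 247, ckNode Cfsg.Agent.Chev.F4.pk (cert.map Prod.fst) tbl i = true := by
  intro i hi
  have hc : i / 64 < 4 := by omega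
  obtain ⟨c, hcd⟩ : ∃ c, c = i / 64 := ⟨_, rfl⟩
  rw [← hcd] at hc
  interval_cases c
  · exact List.all_eq_true.1 ok0 i (List.mem_range'_1.2 (by omega))
  · exact List.all_eq_true.1 ok1 i (List.mem_range'_1.2 (by omega))
  · exact List.all_eq_true.1 ok2 i (List.mem_range'_1.2 (by omega))
  · exact List.all_eq_true.1 ok3 i (List.mem_range'_1.2 (by omega))

theorem leaves_ok : cert.all (ckLeaf Cfsg.Agent.Chev.F4.pk reps) = true := by decide +kernel

theorem reps_ok : reps.all (ckRep Cfsg.Agent.Chev.F4.pk) = true := by decide +kernel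

theorem root_ok : eqLs (bits Cfsg.Agent.Chev.F4.pk (getN tbl 246).1) (posL Cfsg.Agent.Chev.F4.pk) = true ∧
    Nat.beq (bits Cfsg.Agent.Chev.F4.pk (getN tbl 246).2.1).length 0 = true := by decide +kernel

variable {F : Type*} [Field F] [Fintype F] [CharP F 2]

theorem cover {g : GL chevF4.Idx F} (hg : g ∈ chevF4.group F) (ho : orderOf g = 2) :
    ∃ R ∈ reps, ∃ x ∈ chevF4.group F, x * g * x⁻¹ = prd Cfsg.Agent.Chev.F4.ok (fun _ => 1) R :=
  exists_class Cfsg.Agent.Chev.F4.ok ckComm_F4 (root := 246) (n := 247) (by norm_num) root_ok.1 root_ok.2 ok_all leaves_ok hg ho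

theorem sep : ∀ i j, i < reps.length → j < reps.length → i ≠ j → ∀ x ∈ chevF4.group F,
    x * prd Cfsg.Agent.Chev.F4.ok (fun _ => (1 : F)) (reps.getD i []) * x⁻¹ ≠ prd Cfsg.Agent.Chev.F4.ok (fun _ => 1) (reps.getD j []) := by
  intro i j hi hj hij x hx
  have hl : reps.length = 4 := rfl
  rw [hl] at hi hj
  interval_cases i <;> interval_cases j
  · exact absurd rfl hij
  · exact (ne_of_sep Cfsg.Agent.Chev.F4.ok w1_ok sep0_1 hx).1
  · exact (ne_of_sep Cfsg.Agent.Chev.F4.ok w0_ok sep0_2 hx).1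
  · exact (ne_of_sep Cfsg.Agent.Chev.F4.ok w0_ok sep0_3 hx).1
  · exact (ne_of_sep Cfsg.Agent.Chev.F4.ok w1_ok sep0_1 hx).2
  · exact absurd rfl hij
  · exact (ne_of_sep Cfsg.Agent.Chev.F4.ok w0_ok sep1_2 hx).1
  · exact (ne_of_sep Cfsg.Agent.Chev.F4.ok w0_ok sep1_3 hx).1
  · exact (ne_of_sep Cfsg.Agent.Chev.F4.ok w0_ok sep0_2 hx).2
  · exact (ne_of_sep Cfsg.Agent.Chev.F4.ok w0_ok sep1_2 hx).2
  · exact absurd rfl hij
  · exact (ne_of_sep Cfsg.Agent.Chev.F4.ok w0_ok sep2_3 hx).1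
  · exact (ne_of_sep Cfsg.Agent.Chev.F4.ok w0_ok sep0_3 hx).2
  · exact (ne_of_sep Cfsg.Agent.Chev.F4.ok w0_ok sep1_3 hx).2
  · exact (ne_of_sep Cfsg.Agent.Chev.F4.ok w0_ok sep2_3 hx).2
  · exact absurd rfl hij

end Cfsg.Agent.Chev.InvolCert.F4
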